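import Mathlib

/-!
# Diagram chases for gluing flatness along `f` (helper36)

Namespace `Groth.Agent.Lib.Helper36.FlatGlue`.
-/

set_option autoImplicit false
universe u

open TensorProduct

namespace Groth.Agent.Lib.Helper36.FlatGlue

section chase

variable {S : Type*} [CommRing S]
  {A₀ A₁ A₂ A₃ B₀ B₁ B₂ B₃ C₀ C₁ C₂ C₃ : Type*}
  [AddCommGroup A₀] [AddCommGroup A₁] [AddCommGroup A₂] [AddCommGroup A₃]
  [AddCommGroup B₀] [AddCommGroup B₁] [AddCommGroup B₂] [AddCommGroup B₃]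
  [AddCommGroup C₀] [AddCommGroup C₁] [AddCommGroup C₂] [AddCommGroup C₃]
  [Module S A₀] [Module S A₁] [Module S A₂] [Module S A₃]
  [Module S B₀] [Module S B₁] [Module S B₂] [Module S B₃]
  [Module S C₀] [Module S C₁] [Module S C₂] [Module S C₃]

/-- a cycle of the middle row whose image in the bottom row is a boundary is a boundary, when
the top row is exact -/
theorem chase_mid (dA₁ : A₁ →ₗ[S] A₂) (dA₂ : A₂ →ₗ[S] A₃) (dB₁ : B₁ →ₗ[S] B₂)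
    (dB₂ : B₂ →ₗ[S] B₃) (dC₁ : C₁ →ₗ[S] C₂)
    (α₁ : A₁ →ₗ[S] B₁) (α₂ : A₂ →ₗ[S] B₂) (α₃ : A₃ →ₗ[S] B₃)
    (β₁ : B₁ →ₗ[S] C₁) (β₂ : B₂ →ₗ[S] C₂)
    (cα₁ : ∀ x, α₂ (dA₁ x) = dB₁ (α₁ x)) (cα₂ : ∀ x, α₃ (dA₂ x) = dB₂ (α₂ x))
    (cβ₁ : ∀ x, β₂ (dB₁ x) = dC₁ (β₁ x))
    (hB : ∀ x, dB₂ (dB₁ x) = 0)
    (hα₃ : Function.Injective α₃) (hβ₁ : Function.Surjective β₁)
    (hαβ₂ : Function.Exact α₂ β₂) (hA : Function.Exact dA₁ dA₂)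
    (x : B₂) (hx : dB₂ x = 0) (c : C₁) (hc : β₂ x = dC₁ c) : ∃ b, dB₁ b = x := by
  obtain ⟨b, rfl⟩ := hβ₁ c
  have h2 : β₂ (x - dB₁ b) = 0 := by rw [map_sub, cβ₁, hc, sub_self]
  obtain ⟨a, ha⟩ := (hαβ₂ _).mp h2
  have h3 : α₃ (dA₂ a) = 0 := by rw [cα₂, ha, map_sub, hx, hB, sub_self]
  have h4 : dA₂ a = 0 := hα₃ (by rw [h3, map_zero])
  obtain ⟨a', rfl⟩ := (hA _).mp h4
  refine ⟨b + α₁ a', ?_⟩
  rw [map_add, ← cα₁, ha]
  abel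

/-- an element of the top row whose image in the middle row is a boundary is a boundary, when
the bottom row is exact one step earlier -/
theorem chase_inj (dA₁ : A₁ →ₗ[S] A₂) (dB₀ : B₀ →ₗ[S] B₁) (dB₁ : B₁ →ₗ[S] B₂)
    (dC₀ : C₀ →ₗ[S] C₁) (dC₁ : C₁ →ₗ[S] C₂)
    (α₁ : A₁ →ₗ[S] B₁) (α₂ : A₂ →ₗ[S] B₂)
    (β₀ : B₀ →ₗ[S] C₀) (β₁ : B₁ →ₗ[S] C₁) (β₂ : B₂ →ₗ[S] C₂)
    (cα₁ : ∀ x, α₂ (dA₁ x) = dB₁ (α₁ x))
    (cβ₀ : ∀ x, β₁ (dB₀ x) = dC₀ (β₀ x)) (cβ₁ : ∀ x, β₂ (dB₁ x) = dC₁ (β₁ x))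
    (hB : ∀ x, dB₁ (dB₀ x) = 0)
    (hα₂ : Function.Injective α₂) (hβ₀ : Function.Surjective β₀)
    (hαβ₁ : Function.Exact α₁ β₁) (hαβ₂ : ∀ z, β₂ (α₂ z) = 0) (hC : Function.Exact dC₀ dC₁)
    (z : A₂) (y : B₁) (hy : α₂ z = dB₁ y) : ∃ w, dA₁ w = z := by
  have h1 : dC₁ (β₁ y) = 0 := by rw [← cβ₁, ← hy, hαβ₂]
  obtain ⟨v', hv'⟩ := (hC _).mp h1
  obtain ⟨v, rfl⟩ := hβ₀ v'
  have h2 : β₁ (y - dB₀ v) = 0 := by rw [map_sub, cβ₀, hv', sub_self]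
  obtain ⟨w, hw⟩ := (hαβ₁ _).mp h2
  refine ⟨w, hα₂ ?_⟩
  rw [cα₁, hw, map_sub, hB, sub_zero, hy]

end chase

section tensor

variable {R : Type u} [CommRing R] {X₀ X₁ X₂ X₃ : Type u} [AddCommGroup X₀] [AddCommGroup X₁]
  [AddCommGroup X₂] [AddCommGroup X₃] [Module R X₀] [Module R X₁] [Module R X₂] [Module R X₃]
  {N₁ N N₂ : Type u} [AddCommGroup N₁] [AddCommGroup N] [AddCommGroup N₂] [Module R N₁]
  [Module R N] [Module R N₂]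

lemma lTensor_rTensor_comm {Y Y' : Type*} [AddCommGroup Y] [AddCommGroup Y'] [Module R Y]
    [Module R Y'] {T T' : Type*} [AddCommGroup T] [AddCommGroup T'] [Module R T] [Module R T']
    (d : Y →ₗ[R] Y') (g : T →ₗ[R] T') (x : Y ⊗[R] T) :
    g.lTensor Y' (d.rTensor T x) = d.rTensor T' (g.lTensor Y x) := by
  rw [← LinearMap.comp_apply, ← LinearMap.comp_apply, LinearMap.lTensor_comp_rTensor,
    LinearMap.rTensor_comp_lTensor]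

lemma rTensor_rTensor_zero {Y Y' Y'' : Type*} [AddCommGroup Y] [AddCommGroup Y']
    [AddCommGroup Y''] [Module R Y] [Module R Y'] [Module R Y''] {T : Type*} [AddCommGroup T]
    [Module R T] (d : Y →ₗ[R] Y') (d' : Y' →ₗ[R] Y'') (h : d'.comp d = 0) (x : Y ⊗[R] T) :
    d'.rTensor T (d.rTensor T x) = 0 := by
  rw [← LinearMap.comp_apply, ← LinearMap.rTensor_comp, h, LinearMap.rTensor_zero,
    LinearMap.zero_apply]

/-- Claim A: injectivity of `H(X ⊗ N) → H(X ⊗ N₂)` when `H(X ⊗ N₁) = 0` -/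
theorem boundary_of_boundary_image [Module.Flat R X₃] (α : N₁ →ₗ[R] N) (β : N →ₗ[R] N₂)
    (hβ : Function.Surjective β) (hαβ : Function.Exact α β)
    (hα : Function.Injective α)
    (d₁ : X₁ →ₗ[R] X₂) (d₂ : X₂ →ₗ[R] X₃) (h0 : d₂.comp d₁ = 0)
    (hex : Function.Exact (d₁.rTensor N₁) (d₂.rTensor N₁))
    (x : X₂ ⊗[R] N) (hx : d₂.rTensor N x = 0) (c : X₁ ⊗[R] N₂)
    (hc : β.lTensor X₂ x = d₁.rTensor N₂ c) : ∃ b, d₁.rTensor N b = x :=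
  chase_mid (d₁.rTensor N₁) (d₂.rTensor N₁) (d₁.rTensor N) (d₂.rTensor N) (d₁.rTensor N₂)
    (α.lTensor X₁) (α.lTensor X₂) (α.lTensor X₃) (β.lTensor X₁) (β.lTensor X₂)
    (fun x => lTensor_rTensor_comm d₁ α x) (fun x => lTensor_rTensor_comm d₂ α x)
    (fun x => lTensor_rTensor_comm d₁ β x) (fun x => rTensor_rTensor_zero d₁ d₂ h0 x)
    (Module.Flat.lTensor_preserves_injective_linearMap α hα)
    (LinearMap.lTensor_surjective X₁ hβ) (lTensor_exact X₂ hαβ hβ) hex x hx c hc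

/-- Claim B: injectivity of `H(X ⊗ N₁) → H(X ⊗ N)` when `H(X ⊗ N₂) = 0` one step earlier -/
theorem boundary_of_image_boundary [Module.Flat R X₂] (α : N₁ →ₗ[R] N) (β : N →ₗ[R] N₂)
    (hβ : Function.Surjective β) (hαβ : Function.Exact α β)
    (hα : Function.Injective α)
    (d₀ : X₀ →ₗ[R] X₁) (d₁ : X₁ →ₗ[R] X₂) (h0 : d₁.comp d₀ = 0)
    (hex : Function.Exact (d₀.rTensor N₂) (d₁.rTensor N₂))
    (z : X₂ ⊗[R] N₁) (y : X₁ ⊗[R] N) (hy : α.lTensor X₂ z = d₁.rTensor N y) :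
    ∃ w, d₁.rTensor N₁ w = z :=
  chase_inj (d₁.rTensor N₁) (d₀.rTensor N) (d₁.rTensor N) (d₀.rTensor N₂) (d₁.rTensor N₂)
    (α.lTensor X₁) (α.lTensor X₂) (β.lTensor X₀) (β.lTensor X₁) (β.lTensor X₂)
    (fun x => lTensor_rTensor_comm d₁ α x) (fun x => lTensor_rTensor_comm d₀ β x)
    (fun x => lTensor_rTensor_comm d₁ β x) (fun x => rTensor_rTensor_zero d₀ d₁ h0 x)
    (Module.Flat.lTensor_preserves_injective_linearMap α hα)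
    (LinearMap.lTensor_surjective X₀ hβ) (lTensor_exact X₁ hαβ hβ)
    (fun z => (lTensor_exact X₂ hαβ hβ).apply_apply_eq_zero z) hex z y hy

end tensor

end Groth.Agent.Lib.Helper36.FlatGlue
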