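import Mathlib
import Groth.Agent.Lib.Helper36.FlatGlue.Chase

/-!
# Exactness of `X ⊗ Q` from the `f`-torsion and the `f`-local cases (helper36)
-/

set_option autoImplicit false
universe u

open TensorProduct

namespace Groth.Agent.Lib.Helper36.FlatGlue

variable {R : Type u} [CommRing R] (f : R)

theorem isLocalizedModule_lTensor (Q : Type u) [AddCommGroup Q] [Module R Q] (X : Type u)
    [AddCommGroup X] [Module R X] :
    IsLocalizedModule (Submonoid.powers f)
      ((LocalizedModule.mkLinearMap (Submonoid.powers f) Q).lTensor X) := by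
  have h : IsLocalizedModule (Submonoid.powers f)
      (AlgebraTensorModule.rTensor R X (LocalizedModule.mkLinearMap (Submonoid.powers f) Q)) :=
    IsLocalizedModule.rTensor (R := R) (A := R) (N := X) (Submonoid.powers f)
      (LocalizedModule.mkLinearMap (Submonoid.powers f) Q)
  have h2 := IsLocalizedModule.of_linearEquiv (Submonoid.powers f)
    (AlgebraTensorModule.rTensor R X (LocalizedModule.mkLinearMap (Submonoid.powers f) Q))
    (TensorProduct.comm R (LocalizedModule (Submonoid.powers f) Q) X)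
  have h3 := IsLocalizedModule.of_linearEquiv_right (Submonoid.powers f)
    ((TensorProduct.comm R (LocalizedModule (Submonoid.powers f) Q) X).toLinearMap ∘ₗ
      (AlgebraTensorModule.rTensor R X (LocalizedModule.mkLinearMap (Submonoid.powers f) Q)))
    (TensorProduct.comm R X Q)
  convert h3 using 1
  ext x q
  simp

variable {X₀ X₁ X₂ X₃ : Type u} [AddCommGroup X₀] [AddCommGroup X₁]
  [AddCommGroup X₂] [AddCommGroup X₃] [Module R X₀] [Module R X₁] [Module R X₂] [Module R X₃]

/-- every cycle of `X ⊗ Q` becomes a boundary after multiplication by a power of `f`, when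
`X ⊗ Q_f` is exact -/
theorem exists_pow_smul_eq_boundary (d₁ : X₁ →ₗ[R] X₂) (d₂ : X₂ →ₗ[R] X₃)
    (Q : Type u) [AddCommGroup Q] [Module R Q]
    (hloc : Function.Exact (d₁.rTensor (LocalizedModule (Submonoid.powers f) Q))
      (d₂.rTensor (LocalizedModule (Submonoid.powers f) Q)))
    (x : X₂ ⊗[R] Q) (hx : d₂.rTensor Q x = 0) :
    ∃ (n : ℕ) (y : X₁ ⊗[R] Q), f ^ n • x = d₁.rTensor Q y := by
  let lam := LocalizedModule.mkLinearMap (Submonoid.powers f) Q
  have h1 : d₂.rTensor _ (lam.lTensor X₂ x) = 0 := by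
    rw [← lTensor_rTensor_comm, hx, map_zero]
  obtain ⟨y', hy'⟩ := (hloc _).mp h1
  have := isLocalizedModule_lTensor f Q X₁
  have := isLocalizedModule_lTensor f Q X₂
  obtain ⟨⟨y, s⟩, hs⟩ := IsLocalizedModule.surj (Submonoid.powers f) (lam.lTensor X₁) y'
  obtain ⟨k, hk⟩ := s.2
  have hs' : f ^ k • y' = lam.lTensor X₁ y := by
    have h0 : s • y' = lam.lTensor X₁ y := hs
    rw [Submonoid.smul_def, ← hk] at h0
    exact h0
  have h2 : lam.lTensor X₂ (f ^ k • x) = lam.lTensor X₂ (d₁.rTensor Q y) := by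
    rw [lTensor_rTensor_comm, ← hs', map_smul, map_smul, hy']
  obtain ⟨c, hc⟩ := IsLocalizedModule.exists_of_eq (S := Submonoid.powers f) h2
  obtain ⟨m, hm⟩ := c.2
  rw [Submonoid.smul_def, Submonoid.smul_def, ← hm] at hc
  refine ⟨m + k, f ^ m • y, ?_⟩
  rw [map_smul, ← hc, pow_add, mul_smul]

/-- **Gluing exactness along `f`**: exactness of `X ⊗ Q` in a degree follows from the cases of
`f`-power torsion modules (in that degree and the previous one) and of `f`-local modules. -/
theorem exact_rTensor_of_local_of_torsion [Module.Flat R X₂] [Module.Flat R X₃]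
    (d₀ : X₀ →ₗ[R] X₁) (d₁ : X₁ →ₗ[R] X₂) (d₂ : X₂ →ₗ[R] X₃)
    (h01 : d₁.comp d₀ = 0) (h12 : d₂.comp d₁ = 0)
    (htors1 : ∀ (N : Type u) [AddCommGroup N] [Module R N] (n : ℕ), (∀ q : N, f ^ n • q = 0) →
      Function.Exact (d₀.rTensor N) (d₁.rTensor N))
    (htors2 : ∀ (N : Type u) [AddCommGroup N] [Module R N] (n : ℕ), (∀ q : N, f ^ n • q = 0) →
      Function.Exact (d₁.rTensor N) (d₂.rTensor N))
    (hloc : ∀ (Q : Type u) [AddCommGroup Q] [Module R Q],
      Function.Exact (d₁.rTensor (LocalizedModule (Submonoid.powers f) Q))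
        (d₂.rTensor (LocalizedModule (Submonoid.powers f) Q)))
    (Q : Type u) [AddCommGroup Q] [Module R Q] :
    Function.Exact (d₁.rTensor Q) (d₂.rTensor Q) := by
  intro x
  constructor
  · intro hx
    obtain ⟨n, y₀, hy₀⟩ := exists_pow_smul_eq_boundary f d₁ d₂ Q (hloc Q) x hx
    let μ : Q →ₗ[R] Q := f ^ n • LinearMap.id
    let Q₁ : Submodule R Q := LinearMap.ker μ
    let Q₂ : Submodule R Q := LinearMap.range μ
    let π : Q →ₗ[R] Q₂ := μ.rangeRestrict
    have hπ : Function.Surjective π := LinearMap.surjective_rangeRestrict μ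
    have hι : Q₂.subtype.comp π = μ := LinearMap.subtype_comp_codRestrict _ _ _
    -- the image of `x` in `X₂ ⊗ Q₂`
    have h1 : Q₂.subtype.lTensor X₂ (π.lTensor X₂ x) = d₁.rTensor Q y₀ := by
      rw [← LinearMap.comp_apply, ← LinearMap.lTensor_comp, hι, ← hy₀]
      show (f ^ n • LinearMap.id (R := R) (M := Q)).lTensor X₂ x = f ^ n • x
      rw [LinearMap.lTensor_smul, LinearMap.lTensor_id, LinearMap.smul_apply, LinearMap.id_apply]
    -- Claim B for `0 → Q₂ → Q → Q/Q₂ → 0`
    have hq : ∀ q : Q ⧸ Q₂, f ^ n • q = 0 := by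
      intro q
      obtain ⟨q, rfl⟩ := Submodule.Quotient.mk_surjective _ q
      rw [← Submodule.Quotient.mk_smul, Submodule.Quotient.mk_eq_zero]
      exact ⟨q, rfl⟩
    obtain ⟨w, hw⟩ := boundary_of_image_boundary Q₂.subtype Q₂.mkQ
      (Submodule.mkQ_surjective Q₂) (LinearMap.exact_subtype_mkQ Q₂) Q₂.injective_subtype
      d₀ d₁ h01 (htors1 _ n hq) (π.lTensor X₂ x) y₀ h1
    -- Claim A for `0 → Q₁ → Q → Q₂ → 0`
    have hq1 : ∀ q : Q₁, f ^ n • q = 0 := by
      rintro ⟨q, hq⟩
      apply Subtype.ext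
      exact hq
    have hex : Function.Exact Q₁.subtype π := by
      intro q
      constructor
      · intro h
        refine ⟨⟨q, ?_⟩, rfl⟩
        have := congrArg Subtype.val h
        exact this
      · rintro ⟨⟨q, hq⟩, rfl⟩
        apply Subtype.ext
        exact hq
    exact (boundary_of_boundary_image Q₁.subtype π hπ hex Q₁.injective_subtype d₁ d₂ h12
      (htors2 _ n hq1) x hx w hw.symm)
  · rintro ⟨y, rfl⟩
    exact rTensor_rTensor_zero d₁ d₂ h12 y

end Groth.Agent.Lib.Helper36.FlatGlue
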