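import Mathlib
import Groth.Agent.Lib.Helper36.FlatGlue.Local
import Groth.Agent.Lib.Helper36.FibreTorAmp
import Groth.Agent.Lib.Helper36.TorAmpGlDim
import Groth.Agent.Lib.Helper36.SingleCompletion

/-!
# Gluing flatness along `f` in `D(R)` (helper36)
-/

set_option autoImplicit false
set_option linter.unusedSectionVars false
universe u

open CategoryTheory CategoryTheory.Limits MonoidalCategory DRing TensorProduct

attribute [local instance] HasDerivedCategory.standard

namespace Groth.Agent.Lib.Helper36.FlatGlue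

open Groth.Agent.Lib.Helper36.NilTor Groth.Agent.Lib.Helper36.LT Groth.Agent.Lib.Helper12
  Groth.Agent.Lib.Helper36.PowTor Groth.Agent.Lib.Helper36.FibreTorAmp
  Groth.Agent.Lib.Helper36.TorAmpExt Groth.Agent.Lib.Helper36

variable {R : Type u} [CommRing R]

/-- concrete exactness of `P ⊗ N`, with general indices -/
lemma exactAt_tensorCx_iff' (P : DRing.Cx R) (N : ModuleCat.{u} R) (a b c : ℤ) (hab : a + 1 = b)
    (hbc : b + 1 = c) :
    (tensorCx N P).ExactAt b ↔
      Function.Exact ((P.d a b).hom.rTensor N) ((P.d b c).hom.rTensor N) := by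
  obtain rfl : a = b - 1 := by omega
  obtain rfl : c = b + 1 := by omega
  rw [exactAt_tensorCx_iff, ModuleCat.hom_whiskerRight, ModuleCat.hom_whiskerRight]

/-- if `P ⊗_R S` represents a flat `S`-module in degree `0`, then `(P ⊗_R S) ⊗_S N` is exact in
negative degrees for every `S`-module `N` -/
theorem exactAt_tensorCx_ext {S : Type u} [CommRing S] (φ : R →+* S) [DRing.HasLBaseChange φ]
    (P : DRing.Cx R) (hPb : VanishesAbove P 0) (hfl : ∀ n, Module.Flat R (P.X n))
    (F : Type u) [AddCommGroup F] [Module S F] [Module.Flat S F]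
    (e : (DRing.LBaseChange φ).obj (toD P) ≅ Dual.inD S F)
    (M' : ModuleCat.{u} S) (i : ℤ) (hi : i < 0) :
    (tensorCx M' (((ModuleCat.extendScalars.{u, u, u} φ).mapHomologicalComplex
      (ComplexShape.up ℤ)).obj P)).ExactAt i := by
  obtain ⟨e₁⟩ := nonempty_lBaseChangeObjIso_of_flat φ P 0 hPb hfl
  have hamp : HasTorAmplitudeIn S 0 0 (Dual.inD S F) :=
    hasTorAmplitudeIn_single_of_flat (ModuleCat.of S F)
  refine exactAt_tensorCx_of_hasTorAmplitudeIn _ 0 ?_ ?_ (e₁.symm ≪≫ e) 0 0 hamp M' i (Or.inl hi)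
  · intro j hj
    exact (ModuleCat.extendScalars.{u, u, u} φ).map_isZero (hPb j hj)
  · intro j
    have := hfl j
    exact flat_extendScalars φ (P.X j)

section main

variable (f : R) [DRing.HasLBaseChange (algebraMap R (Localization.Away f))]
  [DRing.HasLBaseChange (Ideal.Quotient.mk (Ideal.span ({f} : Set R)))]
  (P : DRing.Cx R) (hPb : VanishesAbove P 0) (hfl : ∀ n, Module.Flat R (P.X n))
  (F₁ : Type u) [AddCommGroup F₁] [Module (Localization.Away f) F₁]
  [Module.Flat (Localization.Away f) F₁]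
  (e₁ : (DRing.LBaseChange (algebraMap R (Localization.Away f))).obj (toD P) ≅
    Dual.inD (Localization.Away f) F₁)
  (F₂ : Type u) [AddCommGroup F₂] [Module (R ⧸ Ideal.span ({f} : Set R)) F₂]
  [Module.Flat (R ⧸ Ideal.span ({f} : Set R)) F₂]
  (e₂ : (DRing.LBaseChange (Ideal.Quotient.mk (Ideal.span ({f} : Set R)))).obj (toD P) ≅
    Dual.inD (R ⧸ Ideal.span ({f} : Set R)) F₂)

include hPb hfl e₂ in
lemma exact_of_torsion (a b c : ℤ) (hab : a + 1 = b) (hbc : b + 1 = c) (hb : b < 0)
    (N : Type u) [AddCommGroup N] [Module R N] (n : ℕ) (hN : ∀ q : N, f ^ n • q = 0) :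
    Function.Exact ((P.d a b).hom.rTensor N) ((P.d b c).hom.rTensor N) := by
  rw [← exactAt_tensorCx_iff' P (ModuleCat.of R N) a b c hab hbc]
  refine exactAt_tensorCx_of_pow (Ideal.Quotient.mk (Ideal.span ({f} : Set R)))
    Ideal.Quotient.mk_surjective P hfl b
    (fun M' => exactAt_tensorCx_ext _ P hPb hfl F₂ e₂ M' b hb) (ModuleCat.of R N) n ?_
  intro x hx q
  rw [Ideal.mk_ker, Ideal.span_singleton_pow] at hx
  obtain ⟨r, rfl⟩ := Ideal.mem_span_singleton'.1 hx
  rw [mul_smul]
  exact (congrArg (fun t => r • t) (hN q)).trans (smul_zero r)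

include hPb hfl e₁ in
lemma exact_of_local (i : ℤ) (hi : i < 0) (Q : Type u) [AddCommGroup Q] [Module R Q] :
    Function.Exact
      ((P.d (i - 1) i).hom.rTensor (LocalizedModule (Submonoid.powers f) Q))
      ((P.d i (i + 1)).hom.rTensor (LocalizedModule (Submonoid.powers f) Q)) := by
  let M' : ModuleCat.{u} (Localization.Away f) :=
    ModuleCat.of (Localization.Away f) (LocalizedModule (Submonoid.powers f) Q)
  have h1 := exactAt_tensorCx_ext (algebraMap R (Localization.Away f)) P hPb hfl F₁ e₁ M' i hi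
  rw [exactAt_tensorCx_iff] at h1
  have h2 := (CBC.exact_whiskerRight_extendScalars_iff (algebraMap R (Localization.Away f)) M'
    (P.d (i - 1) i) (P.d i (i + 1))).mp h1
  rw [ModuleCat.hom_whiskerRight, ModuleCat.hom_whiskerRight] at h2
  let e : ((ModuleCat.restrictScalars (algebraMap R (Localization.Away f))).obj M') ≃ₗ[R]
      LocalizedModule (Submonoid.powers f) Q :=
    { toFun := fun x => x
      invFun := fun x => x
      map_add' := fun _ _ => rfl
      map_smul' := fun c x => by
        show (algebraMap R (Localization.Away f) c) •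
          (show LocalizedModule (Submonoid.powers f) Q from x) = c • _
        rw [algebraMap_smul]
      left_inv := fun _ => rfl
      right_inv := fun _ => rfl }
  exact exact_rTensor_congr e _ _ h2

include hPb hfl e₁ e₂ in
/-- the key exactness statement -/
theorem exactAt_tensorCx_of_glue (Q : ModuleCat.{u} R) (i : ℤ) (hi : i < 0) :
    (tensorCx Q P).ExactAt i := by
  rw [exactAt_tensorCx_iff' P Q (i - 1) i (i + 1) (by omega) rfl]
  have := hfl i
  have := hfl (i + 1)
  have h01 : (P.d (i - 1) i).hom.comp (P.d (i - 2) (i - 1)).hom = 0 := by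
    rw [← ModuleCat.hom_comp, P.d_comp_d]
    rfl
  have h12 : (P.d i (i + 1)).hom.comp (P.d (i - 1) i).hom = 0 := by
    rw [← ModuleCat.hom_comp, P.d_comp_d]
    rfl
  exact exact_rTensor_of_local_of_torsion f (P.d (i - 2) (i - 1)).hom (P.d (i - 1) i).hom
    (P.d i (i + 1)).hom h01 h12
    (fun N _ _ n hN => exact_of_torsion f P hPb hfl F₂ e₂ (i - 2) (i - 1) i (by omega) (by omega)
      (by omega) N n hN)
    (fun N _ _ n hN => exact_of_torsion f P hPb hfl F₂ e₂ (i - 1) i (i + 1) (by omega) rfl hi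
      N n hN)
    (fun Q' _ _ => exact_of_local f P hPb hfl F₁ e₁ i hi Q') Q

end main

/-- **Gluing flatness along `f`.** -/
theorem flat_glue (f : R) (M : Dual.D R)
    [DRing.HasLBaseChange (algebraMap R (Localization.Away f))]
    [DRing.HasLBaseChange (Ideal.Quotient.mk (Ideal.span ({f} : Set R)))]
    (h1 : ∀ i : ℤ, 0 < i → Subsingleton (Dual.HD R M i))
    (h2 : ∃ (N : Type u) (_ : AddCommGroup N) (_ : Module (Localization.Away f) N),
      Module.Flat (Localization.Away f) N ∧
        Nonempty ((DRing.LBaseChange (algebraMap R (Localization.Away f))).obj M ≅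
          Dual.inD (Localization.Away f) N))
    (h3 : ∃ (N : Type u) (_ : AddCommGroup N) (_ : Module (R ⧸ Ideal.span ({f} : Set R)) N),
      Module.Flat (R ⧸ Ideal.span ({f} : Set R)) N ∧
        Nonempty ((DRing.LBaseChange (Ideal.Quotient.mk (Ideal.span ({f} : Set R)))).obj M ≅
          Dual.inD (R ⧸ Ideal.span ({f} : Set R)) N)) :
    ∃ (N : Type u) (_ : AddCommGroup N) (_ : Module R N), Module.Flat R N ∧
      Nonempty (M ≅ Dual.inD R N) := by
  obtain ⟨F₁, _, _, hF₁, ⟨e₁⟩⟩ := h2
  obtain ⟨F₂, _, _, hF₂, ⟨e₂⟩⟩ := h3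
  obtain ⟨P, hPb, hPp, ⟨eP⟩⟩ := exists_projective_rep M 0
    (fun i hi => @ModuleCat.isZero_of_subsingleton _ _ _ (h1 i hi))
  have hfl : ∀ n, Module.Flat R (P.X n) := fun n => by
    have := hPp n
    infer_instance
  have key := exactAt_tensorCx_of_glue f P hPb hfl F₁
    ((DRing.LBaseChange (algebraMap R (Localization.Away f))).mapIso eP ≪≫ e₁) F₂
    ((DRing.LBaseChange (Ideal.Quotient.mk (Ideal.span ({f} : Set R)))).mapIso eP ≪≫ e₂)
  have hex : ∀ i : ℤ, i < 0 → P.ExactAt i := fun i hi =>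
    (key (𝟙_ _) i hi).of_iso (tensorCxUnitIso P)
  have hM : ∀ j : ℤ, j ≠ 0 → Subsingleton (Dual.HD R M j) := by
    intro j hj
    rcases lt_or_gt_of_ne hj with h | h
    · exact ModuleCat.subsingleton_of_isZero
        ((isZero_HF_of_exactAt P j (hex j h)).of_iso ((HF R j).mapIso eP.symm))
    · exact h1 j h
  obtain ⟨Y, ⟨eY⟩⟩ := DC.exists_iso_single_of_subsingleton 0 M hM
  have hflat : Module.Flat R (P.opcycles 0) :=
    flat_opcycles_of_exactAt_tensorCx P 0 (hfl 0) (hex (0 - 1) (by omega))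
      (fun I => key _ (0 - 1) (by omega))
  have hd : P.d 0 1 = 0 := (hPb 1 (by omega)).eq_of_tgt _ _
  let eH : Y ≅ P.opcycles 0 :=
    ((DerivedCategory.singleFunctorCompHomologyFunctorIso (ModuleCat.{u} R) 0).app Y).symm ≪≫
      (HF R 0).mapIso (eY.symm ≪≫ eP.symm) ≪≫
      (DerivedCategory.homologyFunctorFactors (ModuleCat.{u} R) 0).app P ≪≫
      P.isoHomologyι 0 1 (by simp) hd
  have hY : Module.Flat R Y := Module.Flat.of_linearEquiv eH.toLinearEquiv
  exact ⟨Y, inferInstance, inferInstance, hY, ⟨eY⟩⟩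

end Groth.Agent.Lib.Helper36.FlatGlue
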